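import Mathlib

/-!
A transfer criterion: an element of order `p` of a Sylow subgroup all whose conjugates there have
the same image in an abelian quotient has trivial image, in a simple group.
-/

set_option autoImplicit false

namespace CfsgLib.OneComposite

theorem eq_one_of_constant_fusion {G : Type*} [Group G] [Finite G] [IsSimpleGroup G]
    (hna : ∃ a b : G, a * b ≠ b * a) {p : ℕ} [Fact p.Prime] (S : Sylow p G) {A : Type*} [CommGroup A]
    (ψ : ↥(S : Subgroup G) →* A) {b : G} (hbp : b ^ p = 1) (hb : b ∈ (S : Subgroup G))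
    (hconj : ∀ g : G, ∀ hg : g⁻¹ * b * g ∈ (S : Subgroup G), ψ ⟨g⁻¹ * b * g, hg⟩ = ψ ⟨b, hb⟩) :
    ψ ⟨b, hb⟩ = 1 := by
  classical
  haveI := Fintype.ofFinite (Quotient (MulAction.orbitRel (Subgroup.zpowers b) (G ⧸ (S : Subgroup G))))
  -- the transfer is trivial
  have h1 : MonoidHom.transfer ψ b = 1 := by
    rcases (MonoidHom.transfer ψ).normal_ker.eq_bot_or_eq_top with h | h
    · exfalso
      obtain ⟨x, y, hxy⟩ := hna
      have hinj : Function.Injective (MonoidHom.transfer ψ) := (MonoidHom.ker_eq_bot_iff _).1 h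
      exact hxy (hinj (by rw [map_mul, map_mul, mul_comm]))
    · exact MonoidHom.mem_ker.1 (h ▸ Subgroup.mem_top b)
  rw [MonoidHom.transfer_eq_prod_quotient_orbitRel_zpowers_quot] at h1
  -- the orbits have length one or `p`
  set v := ψ ⟨b, hb⟩ with hv
  have hvp : v ^ p = 1 := by
    rw [hv, ← map_pow, show (⟨b, hb⟩ : ↥(S : Subgroup G)) ^ p = 1 from Subtype.ext (by simpa using hbp), map_one]
  let f : Quotient (MulAction.orbitRel (Subgroup.zpowers b) (G ⧸ (S : Subgroup G))) → ℕ :=
    fun q => Function.minimalPeriod (b • ·) q.out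
  have hterm : ∀ q, ψ ⟨q.out.out⁻¹ * b ^ f q * q.out.out,
      QuotientGroup.out_conj_pow_minimalPeriod_mem (S : Subgroup G) b q.out⟩ = v ^ f q ∧ (f q = 1 ∨ f q = p) := by
    intro q
    have hd : f q ∣ p := Function.IsPeriodicPt.minimalPeriod_dvd (show (b • ·)^[p] q.out = q.out by
      rw [smul_iterate, hbp]; exact one_smul G _)
    rcases (Nat.dvd_prime (Fact.out : p.Prime)).1 hd with h | h
    · refine ⟨?_, Or.inl h⟩
      simp only [h, pow_one]
      exact hconj _ _
    · refine ⟨?_, Or.inr h⟩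
      rw [show v ^ f q = 1 by rw [h, hvp]]
      exact (congrArg ψ (Subtype.ext (by simp [h, hbp]))).trans (map_one ψ)
  have h2 : v ^ (∑ q, f q) = 1 := by
    rw [← Finset.prod_pow_eq_pow_sum, ← h1]
    exact Finset.prod_congr rfl fun q _ => ((hterm q).1).symm
  have hsum : ∑ q, f q = (S : Subgroup G).index := by
    rw [Subgroup.index, Nat.card_congr (MulAction.selfEquivSigmaOrbits (Subgroup.zpowers b) (G ⧸ (S : Subgroup G))),
      Nat.card_sigma]
    refine Finset.sum_congr rfl fun q _ => ?_
    exact (Nat.card_zmod _).symm.trans (Nat.card_congr (MulAction.orbitZPowersEquiv b q.out).symm)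
  rw [hsum] at h2
  have hco : (S : Subgroup G).index.Coprime p :=
    (((Fact.out : p.Prime).coprime_iff_not_dvd).2 S.not_dvd_index).symm
  simpa using (Nat.eq_one_of_dvd_coprimes hco (orderOf_dvd_of_pow_eq_one h2) (orderOf_dvd_of_pow_eq_one hvp) :
    orderOf v = 1)

end CfsgLib.OneComposite
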