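import Mathlib
import Cfsg.Agent.Lib.CoprimeAction.Basic
import Cfsg.Agent.Lib.Cores.Basic
import Cfsg.Agent.Lib.PGroups.Frattini

/-!
The norm identity: if `y` of prime order acts fixed-point-freely on a group `K` and all
elements of `V K y` outside `V K` have the order of `y`, then `K` centralises `V`.
-/

set_option autoImplicit false

open Finset

namespace CfsgLib.OneComposite

theorem mul_pow_eq_prod {V : Type*} [CommGroup V] {X : Type*} [Group X] (f : V →* X) (x : X)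
    (c : ℕ → V → V) (hc0 : ∀ v, c 0 v = v) (hc : ∀ i v, f (c i v) = x ^ i * f v * (x ^ i)⁻¹) (v : V) :
    ∀ n : ℕ, (f v * x) ^ n = f (∏ i ∈ range n, c i v) * x ^ n := by
  intro n
  induction n with
  | zero => simp
  | succ n ih =>
    rw [pow_succ, ih, prod_range_succ, map_mul, hc, pow_succ]
    group

/-- The identity for an abelian `V`. -/
theorem comm_of_norm {X : Type*} [Group X] [Finite X] {V K : Subgroup X}
    (hV : ∀ a ∈ V, ∀ b ∈ V, a * b = b * a) {y : X} {s : ℕ} (hs : s.Prime) (hys : y ^ s = 1)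
    (hKV : ∀ k ∈ K, ∀ v ∈ V, k * v * k⁻¹ ∈ V) (hyV : ∀ v ∈ V, y * v * y⁻¹ ∈ V)
    (hyK : ∀ k ∈ K, y * k * y⁻¹ ∈ K) (hfix : ∀ k ∈ K, k * y = y * k → k = 1)
    (hcop : (Nat.card K).Coprime (Nat.card V))
    (hpow : ∀ k ∈ K, ∀ v ∈ V, (v * (k * y)) ^ s = 1) :
    ∀ k ∈ K, ∀ v ∈ V, k * v = v * k := by
  classical
  letI : CommGroup V := { (inferInstance : Group V) with mul_comm := fun a b => Subtype.ext (hV a a.2 b b.2) }
  haveI := Fintype.ofFinite K
  set N : Subgroup X :=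
    { carrier := {x | (∀ v ∈ V, x * v * x⁻¹ ∈ V) ∧ ∀ v ∈ V, x⁻¹ * v * x ∈ V}
      mul_mem' := by
        intro a b ha hb
        refine ⟨fun v hv => ?_, fun v hv => ?_⟩
        · rw [show a * b * v * (a * b)⁻¹ = a * (b * v * b⁻¹) * a⁻¹ by group]
          exact ha.1 _ (hb.1 v hv)
        · rw [show (a * b)⁻¹ * v * (a * b) = b⁻¹ * (a⁻¹ * v * a) * b by group]
          exact hb.2 _ (ha.2 v hv)
      one_mem' := ⟨fun v hv => by rwa [one_mul, inv_one, mul_one], fun v hv => by rwa [inv_one, one_mul, mul_one]⟩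
      inv_mem' := by
        intro a ha
        exact ⟨fun v hv => by simpa using ha.2 v hv, fun v hv => by simpa using ha.1 v hv⟩ } with hN
  have hKN : ∀ k ∈ K, k ∈ N := fun k hk =>
    ⟨hKV k hk, fun v hv => by simpa using hKV k⁻¹ (inv_mem hk) v hv⟩
  have hyN : y ∈ N := by
    refine ⟨hyV, fun v hv => ?_⟩
    have hinj : Function.Injective (fun v : V => (⟨y * v * y⁻¹, hyV v v.2⟩ : V)) := fun a b hab => by
      have e : y * (a : X) * y⁻¹ = y * (b : X) * y⁻¹ := congrArg Subtype.val hab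
      exact Subtype.ext (mul_left_cancel (mul_right_cancel e))
    obtain ⟨w, hw⟩ := (Finite.injective_iff_surjective.1 hinj) ⟨v, hv⟩
    have hw' : y * (w : X) * y⁻¹ = v := congrArg Subtype.val hw
    rw [show y⁻¹ * v * y = (w : X) by rw [← hw']; group]
    exact w.2
  -- conjugation on `V`
  let cj : N → V →* V := fun x =>
    { toFun := fun v => ⟨(x : X) * v * (x : X)⁻¹, x.2.1 v v.2⟩
      map_one' := Subtype.ext (by simp)
      map_mul' := fun a b => Subtype.ext (by simp [mul_assoc]) }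
  have cj_mul : ∀ (a b : N) (v : V), cj (a * b) v = cj a (cj b v) := fun a b v =>
    Subtype.ext (by simp [cj, mul_assoc])
  let kN : K → N := fun k => ⟨k, hKN k k.2⟩
  let yN : N := ⟨y, hyN⟩
  -- norms vanish
  have hnorm : ∀ (k : K) (v : V), ∏ i ∈ range s, cj ((kN k * yN) ^ i) v = 1 := by
    intro k v
    have h := mul_pow_eq_prod V.subtype (((k : X) * y)) (fun i => cj ((kN k * yN) ^ i))
      (fun v => Subtype.ext (by simp [cj])) (fun i v => by
        show ((kN k * yN) ^ i : N).1 * (v : X) * (((kN k * yN) ^ i : N).1)⁻¹ = _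
        rw [SubgroupClass.coe_pow]
        rfl) v s
    have h1 : ((k : X) * y) ^ s = 1 := by simpa using hpow k k.2 1 (one_mem _)
    rw [h1, mul_one] at h
    exact Subtype.ext ((h.symm.trans (hpow k k.2 v v.2)).trans rfl)
  -- conjugates of `y` exhaust the coset
  have hcomm : ∀ i : ℕ, i % s ≠ 0 → ∀ k ∈ K, k * y ^ i = y ^ i * k → k = 1 := by
    intro i hi k hk he
    refine hfix k hk ?_
    obtain ⟨j, hj⟩ : ∃ j : ℕ, (y ^ i) ^ j = y := by
      have hco : i.Coprime s := Nat.Coprime.symm ((hs.coprime_iff_not_dvd).2 fun h => hi (Nat.dvd_iff_mod_eq_zero.1 h))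
      obtain ⟨j, -, hj⟩ := Nat.exists_mul_mod_eq_one_of_coprime hco hs.one_lt
      refine ⟨j, ?_⟩
      rw [← pow_mul, ← Nat.mod_add_div (i * j) s, pow_add, pow_mul y s, hys, one_pow, mul_one, hj, pow_one]
    rw [← hj]
    exact (show Commute k (y ^ i) from he).pow_right j
  have hy0 : ∀ j : ℕ, ∀ k ∈ K, y ^ j * k * (y ^ j)⁻¹ ∈ K := by
    intro j
    induction j with
    | zero => simp
    | succ j ih =>
      intro k hk
      rw [pow_succ']
      simpa [mul_assoc] using hyK _ (ih k hk)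
  let tw : ℕ → K → K := fun i a => ⟨(a : X) * (y ^ i * (a : X)⁻¹ * (y ^ i)⁻¹), mul_mem a.2 (hy0 i _ (inv_mem a.2))⟩
  have htw : ∀ i : ℕ, i % s ≠ 0 → Function.Bijective (tw i) := by
    intro i hi
    refine Finite.injective_iff_bijective.1 fun a b hab => ?_
    have e : (a : X) * (y ^ i * (a : X)⁻¹ * (y ^ i)⁻¹) = b * (y ^ i * (b : X)⁻¹ * (y ^ i)⁻¹) := congrArg Subtype.val hab
    have e2 : ((b : X)⁻¹ * a) * y ^ i = y ^ i * ((b : X)⁻¹ * a) := by
      calc ((b : X)⁻¹ * a) * y ^ i = (b : X)⁻¹ * ((a : X) * (y ^ i * (a : X)⁻¹ * (y ^ i)⁻¹)) * y ^ i * a := by group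
        _ = (b : X)⁻¹ * (b * (y ^ i * (b : X)⁻¹ * (y ^ i)⁻¹)) * y ^ i * a := by rw [e]
        _ = y ^ i * ((b : X)⁻¹ * a) := by group
    exact Subtype.ext (inv_mul_eq_one.1 (hcomm i hi _ (mul_mem (inv_mem b.2) a.2) e2)).symm
  let T : V → V := fun w => ∏ k : K, cj (kN k) w
  have h1s : (1 : ℕ) % s ≠ 0 := by rw [Nat.one_mod_eq_one.2 hs.one_lt.ne']; norm_num
  have hT : ∀ i ∈ range s, i ≠ 0 → ∀ v : V, ∏ k : K, cj ((kN k * yN) ^ i) v = T (cj (yN ^ i) v) := by
    intro i hi hi0 v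
    have hmod : i % s ≠ 0 := by rw [Nat.mod_eq_of_lt (mem_range.1 hi)]; exact hi0
    rw [← (Equiv.ofBijective _ (htw 1 h1s)).prod_comp (fun k => cj ((kN k * yN) ^ i) v)]
    rw [show T (cj (yN ^ i) v) = ∏ b : K, cj (kN b) (cj (yN ^ i) v) from rfl,
      ← (Equiv.ofBijective _ (htw i hmod)).prod_comp (fun b => cj (kN b) (cj (yN ^ i) v))]
    refine prod_congr rfl fun a _ => ?_
    rw [← cj_mul]
    congr 2
    apply Subtype.ext
    simp only [Equiv.ofBijective_apply, SubgroupClass.coe_pow, Subgroup.coe_mul, kN, yN, tw, pow_one]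
    rw [show (a : X) * (y * (a : X)⁻¹ * y⁻¹) * y = (a : X) * y * (a : X)⁻¹ by group, conj_pow]
    group
  intro k hk v hv
  set v' : V := ⟨v, hv⟩
  have hzero : cj (yN ^ 0) v' = v' := Subtype.ext (by simp [cj])
  have htot : ∏ i ∈ range s, T (cj (yN ^ i) v') = 1 := by
    show ∏ i ∈ range s, ∏ b : K, cj (kN b) (cj (yN ^ i) v') = 1
    rw [prod_comm]
    refine prod_eq_one fun b _ => ?_
    rw [← map_prod]
    have h0 := hnorm 1 v'
    rw [show kN 1 = (1 : N) from Subtype.ext rfl, one_mul] at h0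
    rw [h0, map_one]
  have hsum : ∏ b : K, ∏ i ∈ range s, cj ((kN b * yN) ^ i) v' = 1 := prod_eq_one fun b _ => hnorm b v'
  rw [prod_comm] at hsum
  have h0s : 0 ∈ range s := mem_range.2 hs.pos
  rw [← mul_prod_erase _ _ h0s] at hsum
  rw [← mul_prod_erase _ _ h0s, hzero] at htot
  rw [prod_congr rfl (fun i hi => hT i (mem_erase.1 hi).2 (mem_erase.1 hi).1 v')] at hsum
  have hpw : ∏ b : K, cj ((kN b * yN) ^ 0) v' = v' ^ Fintype.card K := by
    rw [prod_congr rfl (fun b _ => show cj ((kN b * yN) ^ 0) v' = v' from Subtype.ext (by simp [cj])),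
      prod_const, card_univ]
  rw [hpw] at hsum
  have hTv : T v' = v' ^ Fintype.card K := mul_right_cancel (htot.trans hsum.symm)
  have hinv : cj (kN ⟨k, hk⟩) (T v') = T v' := by
    show cj _ (∏ b : K, cj (kN b) v') = _
    rw [map_prod]
    exact Fintype.prod_equiv (Equiv.mulLeft (⟨k, hk⟩ : K)) _ _ fun b => by rw [← cj_mul]; rfl
  rw [hTv, map_pow] at hinv
  have heq : (cj (kN ⟨k, hk⟩) v' * v'⁻¹) ^ Fintype.card K = 1 := by
    rw [mul_pow, inv_pow, hinv, mul_inv_cancel]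
  have h1 : cj (kN ⟨k, hk⟩) v' * v'⁻¹ = 1 := by
    refine orderOf_eq_one_iff.1 (Nat.eq_one_of_dvd_coprimes hcop ?_ (orderOf_dvd_natCard _))
    rw [Nat.card_eq_fintype_card]
    exact orderOf_dvd_of_pow_eq_one heq
  have h2 : k * v * k⁻¹ = v := congrArg Subtype.val (mul_inv_eq_one.1 h1)
  exact mul_inv_eq_iff_eq_mul.1 h2

end CfsgLib.OneComposite

namespace CfsgLib.OneComposite

/-- The norm identity for a `p`-group `W`. -/
theorem comm_of_norm_pGroup {G : Type*} [Group G] [Finite G] {p : ℕ} [Fact p.Prime] {W K : Subgroup G}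
    (hW : IsPGroup p W) {y : G} {s : ℕ} (hs : s.Prime) (hys : y ^ s = 1)
    (hKW : ∀ k ∈ K, ∀ w ∈ W, k * w * k⁻¹ ∈ W) (hyW : ∀ w ∈ W, y * w * y⁻¹ ∈ W)
    (hyK : ∀ k ∈ K, y * k * y⁻¹ ∈ K) (hfix : ∀ k ∈ K, k * y = y * k → k = 1)
    (hcop : (Nat.card K).Coprime (Nat.card W))
    (hpow : ∀ k ∈ K, ∀ w ∈ W, (w * (k * y)) ^ s = 1) :
    ∀ k ∈ K, ∀ w ∈ W, k * w = w * k := by
  classical
  have hmemW : ∀ g : G, (∀ w ∈ W, g * w * g⁻¹ ∈ W) → g ∈ Subgroup.normalizer (W : Set G) :=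
    fun g h => CoprimeAction.mem_normalizer_of_conj_mem h
  set Φ : Subgroup G := (frattini W).map W.subtype with hΦ
  have hchar : ∀ g ∈ Subgroup.normalizer (W : Set G), g ∈ Subgroup.normalizer (Φ : Set G) :=
    fun g hg => CfsgLib.Cores.normalizer_le_normalizer_map_subtype W (frattini W) hg
  have hΦW : Φ ≤ W := Subgroup.map_subtype_le _
  set Nor := Subgroup.normalizer (Φ : Set G) with hNor
  set Φ' : Subgroup Nor := Φ.subgroupOf Nor with hΦ'
  haveI : Φ'.Normal := Subgroup.normal_in_normalizer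
  have hyN : y ∈ Nor := hchar y (hmemW y hyW)
  have hKN : K ≤ Nor := fun k hk => hchar k (hmemW k (hKW k hk))
  have hWN : W ≤ Nor := fun w hw => hchar w (Subgroup.le_normalizer hw)
  let π : Nor →* Nor ⧸ Φ' := QuotientGroup.mk' Φ'
  set V := (W.subgroupOf Nor).map π
  set K' := (K.subgroupOf Nor).map π
  have key : ∀ k ∈ K', ∀ v ∈ V, k * v = v * k := by
    refine comm_of_norm (y := π ⟨y, hyN⟩) ?_ hs ?_ ?_ ?_ ?_ ?_ ?_ ?_
    · rintro _ ⟨a, ha, rfl⟩ _ ⟨b, hb, rfl⟩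
      rw [← map_mul, ← map_mul]
      refine (QuotientGroup.eq.2 ?_)
      have hmem := CfsgLib.PGroups.commutator_le_frattini hW
        (Subgroup.commutator_mem_commutator (Subgroup.mem_top (⟨((b : Nor) : G)⁻¹, inv_mem hb⟩ : W))
          (Subgroup.mem_top (⟨((a : Nor) : G)⁻¹, inv_mem ha⟩ : W)))
      refine ⟨_, hmem, ?_⟩
      simp [commutatorElement_def, mul_assoc]
    · rw [← map_pow]
      exact congrArg π (Subtype.ext (by simpa using hys)) |>.trans (map_one π)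
    · rintro _ ⟨k, hk, rfl⟩ _ ⟨w, hw, rfl⟩
      exact ⟨k * w * k⁻¹, hKW _ hk _ hw, by simp⟩
    · rintro _ ⟨w, hw, rfl⟩
      exact ⟨⟨y, hyN⟩ * w * ⟨y, hyN⟩⁻¹, hyW _ hw, by simp⟩
    · rintro _ ⟨k, hk, rfl⟩
      exact ⟨⟨y, hyN⟩ * k * ⟨y, hyN⟩⁻¹, hyK _ hk, by simp⟩
    · rintro _ ⟨k, hk, rfl⟩ he
      rw [← map_mul, ← map_mul] at he
      have he' : ((k * ⟨y, hyN⟩)⁻¹ * (⟨y, hyN⟩ * k) : Nor) ∈ Φ' := QuotientGroup.eq.1 he
      have h1 : (((k : G) * y)⁻¹ * (y * k)) ∈ Φ := he'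
      have h2 : ((k : G) * y)⁻¹ * (y * k) ∈ W := hΦW h1
      have h3 : y⁻¹ * ((k : G)⁻¹) * y ∈ K := by
        obtain ⟨j, hj⟩ : ∃ j : ℕ, y⁻¹ = y ^ j := ⟨s - 1, inv_eq_of_mul_eq_one_right (by
          rw [← pow_succ', Nat.sub_add_cancel hs.pos, hys])⟩
        have : ∀ j : ℕ, ∀ c ∈ K, y ^ j * c * (y ^ j)⁻¹ ∈ K := by
          intro j
          induction j with
          | zero => simp
          | succ j ih =>
            intro c hc
            rw [pow_succ']
            simpa [mul_assoc] using hyK _ (ih c hc)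
        have h4 := this j _ (inv_mem hk)
        rwa [← hj, inv_inv] at h4
      have h5 : ((k : G) * y)⁻¹ * (y * k) ∈ K := by
        rw [show ((k : G) * y)⁻¹ * (y * k) = y⁻¹ * (k : G)⁻¹ * y * k by group]
        exact mul_mem h3 hk
      have h6 : ((k : G) * y)⁻¹ * (y * k) = 1 := by
        have := Subgroup.inf_eq_bot_of_coprime hcop
        exact Subgroup.mem_bot.1 (this ▸ ⟨h5, h2⟩)
      rw [show (k : Nor) = 1 from Subtype.ext (hfix k hk (inv_mul_eq_one.1 h6)), map_one]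
    · refine Nat.Coprime.coprime_dvd_left ?_ (Nat.Coprime.coprime_dvd_right ?_ hcop)
      · exact (Subgroup.card_map_dvd _ _).trans (Nat.card_congr (Subgroup.subgroupOfEquivOfLe hKN).toEquiv).dvd
      · exact (Subgroup.card_map_dvd _ _).trans (Nat.card_congr (Subgroup.subgroupOfEquivOfLe hWN).toEquiv).dvd
    · rintro _ ⟨k, hk, rfl⟩ _ ⟨w, hw, rfl⟩
      rw [← map_mul, ← map_mul, ← map_pow]
      exact congrArg π (Subtype.ext (by simpa using hpow _ hk _ hw)) |>.trans (map_one π)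
  intro k hk w hw
  have hle : K ≤ Subgroup.centralizer (W : Set G) := by
    refine CfsgLib.CoprimeAction.le_centralizer_of_frattini (fun k hk => hmemW k (hKW k hk))
      (hcop.coprime_dvd_right (Subgroup.card_subgroup_dvd_card _)) fun a ha b hb => ?_
    have h := key _ ⟨⟨a, hKN ha⟩, ha, rfl⟩ _ ⟨⟨b, hWN hb⟩, hb, rfl⟩
    rw [← map_mul, ← map_mul] at h
    have h1 := QuotientGroup.eq.1 h.symm
    have h2 : (b * a)⁻¹ * (a * b) ∈ Φ := h1
    have h3 : a * ((b * a)⁻¹ * (a * b)) * a⁻¹ ∈ Φ :=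
      CoprimeAction.conj_mem (hKN ha) h2
    rwa [show a * ((b * a)⁻¹ * (a * b)) * a⁻¹ = b⁻¹ * (a * b * a⁻¹) by group] at h3
  exact ((hle hk) w hw).symm

end CfsgLib.OneComposite
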