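import Mathlib
import Cfsg.Agent.Lib.OneComposite.Norm
import Cfsg.Agent.Lib.CoprimeAction.Abelian

/-!
Fixed-point-free groups of automorphisms of an abelian group.
-/

set_option autoImplicit false

namespace CfsgLib.OneComposite

open SemidirectProduct

variable {A : Type*} [Group A] [Finite A]

theorem semidirect_finite {B : Type*} [Group B] [Finite B] (φ : B →* MulAut A) : Finite (A ⋊[φ] B) :=
  Finite.of_equiv _ SemidirectProduct.equivProd.symm

theorem mulAut_finite : Finite (MulAut A) :=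
  Finite.of_injective (fun f : MulAut A => (f : A → A)) DFunLike.coe_injective

omit [Finite A] in
theorem inl_conj (g : MulAut A) (a : A) :
    (inr g : A ⋊[MonoidHom.id (MulAut A)] MulAut A) * inl a * (inr g)⁻¹ = inl (g a) := by
  rw [← map_inv]
  exact (inl_aut g a).symm

omit [Finite A] in
theorem inr_mem_normalizer (g : MulAut A) :
    (inr g : A ⋊[MonoidHom.id (MulAut A)] MulAut A) ∈
      Subgroup.normalizer ((inl : A →* A ⋊[MonoidHom.id (MulAut A)] MulAut A).range :
        Set (A ⋊[MonoidHom.id (MulAut A)] MulAut A)) := by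
  have : (inl : A →* A ⋊[MonoidHom.id (MulAut A)] MulAut A).range.Normal := by
    rw [range_inl_eq_ker_rightHom]; infer_instance
  rw [Subgroup.normalizer_eq_top_iff.2 this]
  exact Subgroup.mem_top _

/-- If `y` normalises `K` and all elements of `K y` have order `s` and no fixed points, then `K` is trivial,
provided `y` fixes no element of `K` and the orders are coprime. -/
theorem eq_bot_of_fpf_coset (hA : ∀ a b : A, a * b = b * a) {K : Subgroup (MulAut A)} {y : MulAut A}
    {s : ℕ} (hs : s.Prime) (hys : y ^ s = 1) (hyK : ∀ k ∈ K, y * k * y⁻¹ ∈ K)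
    (hfix : ∀ k ∈ K, k * y = y * k → k = 1) (hord : ∀ k ∈ K, (k * y) ^ s = 1)
    (hfpf : ∀ k ∈ K, ∀ a : A, (k * y) a = a → a = 1)
    (hcop : (Nat.card K).Coprime (Nat.card A)) : K = ⊥ := by
  haveI := mulAut_finite (A := A)
  haveI := semidirect_finite (A := A) (MonoidHom.id (MulAut A))
  set V := (inl : A →* A ⋊[MonoidHom.id (MulAut A)] MulAut A).range
  set K' := K.map (inr : MulAut A →* A ⋊[MonoidHom.id (MulAut A)] MulAut A) with hK'
  have hV : ∀ g : MulAut A, ∀ v ∈ V, (inr g : A ⋊[MonoidHom.id (MulAut A)] MulAut A) * v * (inr g)⁻¹ ∈ V := by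
    rintro g _ ⟨a, rfl⟩
    exact ⟨g a, (inl_conj g a).symm⟩
  have key := comm_of_norm (V := V) (K := K') (y := inr y) (s := s) ?_ hs (by rw [← map_pow, hys, map_one])
    (by rintro _ ⟨k, hk, rfl⟩ v hv; exact hV k v hv) (hV y) ?_ ?_ ?_ ?_
  · rw [eq_bot_iff]
    intro k hk
    rw [Subgroup.mem_bot]
    refine MulEquiv.ext fun a => ?_
    have h1 := key _ ⟨k, hk, rfl⟩ _ ⟨a, rfl⟩
    rw [← mul_inv_eq_iff_eq_mul, inl_conj] at h1
    simpa using inl_injective h1
  · rintro _ ⟨a, rfl⟩ _ ⟨b, rfl⟩
    rw [← map_mul, ← map_mul, hA]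
  · rintro _ ⟨k, hk, rfl⟩
    exact ⟨y * k * y⁻¹, hyK k hk, by simp⟩
  · rintro _ ⟨k, hk, rfl⟩ he
    rw [← map_mul, ← map_mul] at he
    rw [hfix k hk (inr_injective he), map_one]
  · rw [Subgroup.card_map_of_injective inr_injective,
      ← Nat.card_congr (MonoidHom.ofInjective inl_injective).toEquiv]
    exact hcop
  · rintro _ ⟨k, hk, rfl⟩ _ ⟨v, rfl⟩
    rw [← map_mul]
    set x := (inl v : A ⋊[MonoidHom.id (MulAut A)] MulAut A) * inr (k * y)
    have hr : rightHom (x ^ s) = 1 := by
      rw [map_pow, show rightHom x = k * y by simp [x], hord k hk]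
    obtain ⟨a, ha⟩ : x ^ s ∈ V := by
      show x ^ s ∈ MonoidHom.range _
      rw [range_inl_eq_ker_rightHom]; exact hr
    have hc : x * inl a * x⁻¹ = inl a := by rw [ha]; group
    have h2 : x * inl a * x⁻¹ = inl ((k * y) a) := by
      rw [show x * inl a * x⁻¹ =
          inl v * (inr (k * y) * inl a * (inr (k * y))⁻¹) * (inl v : A ⋊[MonoidHom.id (MulAut A)] MulAut A)⁻¹ by
        simp [x, mul_assoc], inl_conj, ← map_mul, hA v, map_mul, mul_inv_cancel_right]
    rw [← ha, hfpf k hk a (inl_injective (h2.symm.trans hc)), map_one]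

/-- Two independent commuting automorphisms of prime order `l` fix some nontrivial element. -/
theorem no_elementary (hA : ∀ a b : A, a * b = b * a) [Nontrivial A] {l : ℕ} (hl : l.Prime)
    (hcop : (Nat.card A).Coprime l) {g z : MulAut A} (hg : g ^ l = 1) (hz : z ^ l = 1) (hz1 : z ≠ 1)
    (hgz : g * z = z * g) (hne : g ∉ Subgroup.zpowers z)
    (hfpf : ∀ x ∈ Subgroup.closure ({g, z} : Set (MulAut A)), x ≠ 1 → ∀ a : A, x a = a → a = 1) : False := by
  haveI := mulAut_finite (A := A)
  haveI := semidirect_finite (A := A) (MonoidHom.id (MulAut A))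
  set V := (inl : A →* A ⋊[MonoidHom.id (MulAut A)] MulAut A).range
  have hcl : Subgroup.closure ({inr g, inr z} : Set (A ⋊[MonoidHom.id (MulAut A)] MulAut A)) =
      (Subgroup.closure ({g, z} : Set (MulAut A))).map inr := by
    rw [MonoidHom.map_closure, Set.image_insert_eq, Set.image_singleton]
  have h := CoprimeAction.le_of_centralizers_aux (R := V) (H := ⊥) hl
    (x := inr g) (y := inr z) (by rw [← map_pow, hg, map_one]) (by rw [← map_pow, hz, map_one])
    (by rw [← map_mul, ← map_mul, hgz]) (fun i h => hne ?_) (fun h => hz1 (inr_injective (h.trans (map_one _).symm)))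
    (inr_mem_normalizer g) (inr_mem_normalizer z) ?_ ?_ ?_
  · obtain ⟨a, ha⟩ := exists_ne (1 : A)
    exact ha (inl_injective ((Subgroup.mem_bot.1 (h ⟨a, rfl⟩)).trans (map_one _).symm))
  · rw [← map_pow, ← map_mul, ← map_one (inr : MulAut A →* A ⋊[MonoidHom.id (MulAut A)] MulAut A)] at h
    rw [eq_inv_of_mul_eq_one_left (inr_injective h)]
    exact inv_mem (pow_mem (Subgroup.mem_zpowers z) i)
  · rwa [← Nat.card_congr (MonoidHom.ofInjective inl_injective).toEquiv]
  · rw [le_bot_iff, Subgroup.commutator_eq_bot_iff_le_centralizer]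
    rintro _ ⟨a, rfl⟩
    rw [Subgroup.mem_centralizer_iff]
    rintro _ ⟨b, rfl⟩
    rw [← map_mul, ← map_mul, hA]
  · intro x hx hx1
    rw [hcl] at hx
    obtain ⟨k, hk, rfl⟩ := hx
    rintro _ ⟨⟨a, rfl⟩, hc⟩
    have hc' := Subgroup.mem_centralizer_singleton_iff.1 hc
    have h2 : k a = a := by
      have := inl_conj k a
      rw [← hc', mul_inv_cancel_right] at this
      exact (inl_injective this).symm
    rw [Subgroup.mem_bot, hfpf k hk (fun e => hx1 (by rw [e, map_one])) a h2, map_one]

end CfsgLib.OneComposite
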